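import Cfsg.Agent.Lib.E8.Data
import Cfsg.Agent.Lib.Classical.OrthSpinor
import Cfsg.Agent.Lib.Classical.OrthForms

/-!
# The isometry group of the `E₈` lattice and its reductions

The form is positive definite and congruent to the hyperbolic form modulo six, so the isometries
reduce to isometries of `quadFormPlus 4` in characteristics two and three.
-/

set_option autoImplicit false
set_option linter.unusedSectionVars false
set_option maxRecDepth 100000

namespace CfsgLib.E8

open Matrix CfsgLib.Orth

/-- The coefficients. -/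
def U : Matrix Ix Ix ℤ := mat uList

/-- The form. -/
def q (x : Ix → ℤ) : ℤ := ∑ i, ∑ j, U i j * (x i * x j)

/-- Its polar. -/
def bil (x y : Ix → ℤ) : ℤ := ∑ i, ∑ j, U i j * (x i * y j + y i * x j)

theorem q_add (x y : Ix → ℤ) : q (x + y) = q x + q y + bil x y := by
  simp only [q, bil, ← Finset.sum_add_distrib, Pi.add_apply]
  exact Finset.sum_congr rfl fun i _ => Finset.sum_congr rfl fun j _ => by ring

theorem q_smul (c : ℤ) (x : Ix → ℤ) : q (c • x) = c * c * q x := by
  simp only [q, Finset.mul_sum, Pi.smul_apply, smul_eq_mul]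
  exact Finset.sum_congr rfl fun i _ => Finset.sum_congr rfl fun j _ => by ring

theorem bil_comm (x y : Ix → ℤ) : bil x y = bil y x := by
  simp only [bil]
  exact Finset.sum_congr rfl fun i _ => Finset.sum_congr rfl fun j _ => by ring

theorem bil_self (x : Ix → ℤ) : bil x x = 2 * q x := by
  simp only [q, bil, Finset.mul_sum]
  exact Finset.sum_congr rfl fun i _ => Finset.sum_congr rfl fun j _ => by ring

theorem bil_add_right (x y z : Ix → ℤ) : bil x (y + z) = bil x y + bil x z := by
  simp only [bil, ← Finset.sum_add_distrib, Pi.add_apply]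
  exact Finset.sum_congr rfl fun i _ => Finset.sum_congr rfl fun j _ => by ring

theorem bil_smul_right (c : ℤ) (x y : Ix → ℤ) : bil x (c • y) = c * bil x y := by
  simp only [bil, Finset.mul_sum, Pi.smul_apply, smul_eq_mul]
  exact Finset.sum_congr rfl fun i _ => Finset.sum_congr rfl fun j _ => by ring

theorem gram_entries : ∀ i j : Ix, 8 * (U i j + U j i) =
    2 * ∑ k, mat nList k i * mat nList k j := by decide +kernel

theorem left_inv_entries : ∀ i j : Ix, ∑ k, mat lList i k * mat nList k j =
    if i = j then 4 else 0 := by decide +kernel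

theorem congr_six : ∀ i j : Ix, (6 : ℤ) ∣ U i j -
    match i, j with
    | .inl a, .inr b => if a = b then 1 else 0
    | _, _ => 0 := by decide +kernel

theorem eight_q (x : Ix → ℤ) : 8 * q x = ∑ k, (mat nList *ᵥ x) k * (mat nList *ᵥ x) k := by
  have h : 2 * (8 * q x) = 2 * ∑ k, (mat nList *ᵥ x) k * (mat nList *ᵥ x) k := by
    simp only [q, Matrix.mulVec, dotProduct, Finset.sum_mul, Finset.mul_sum]
    conv_rhs => rw [Finset.sum_comm]; arg 2; ext i; rw [Finset.sum_comm]
    have e : ∀ i j : Ix, ∑ k, 2 * (mat nList k i * x i * (mat nList k j * x j)) =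
        8 * (U i j + U j i) * (x i * x j) := fun i j => by
      rw [gram_entries, Finset.mul_sum, Finset.sum_mul]
      exact Finset.sum_congr rfl fun k _ => by ring
    simp only [e, mul_add, add_mul, Finset.sum_add_distrib]
    rw [Finset.sum_comm (f := fun a b => 8 * U b a * (x b * x a)), ← Finset.sum_add_distrib]
    simp only [← Finset.sum_add_distrib]
    exact Finset.sum_congr rfl fun i _ => Finset.sum_congr rfl fun j _ => by ring
  linarith

theorem eq_zero_of_q_nonpos {x : Ix → ℤ} (h : q x ≤ 0) : x = 0 := by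
  have h8 := eight_q x
  have hy : ∀ k, (mat nList *ᵥ x) k = 0 := fun k => by
    have h1 : (mat nList *ᵥ x) k * (mat nList *ᵥ x) k ≤ 8 * q x := by
      rw [h8]
      exact Finset.single_le_sum (f := fun k => (mat nList *ᵥ x) k * (mat nList *ᵥ x) k)
        (fun i _ => mul_self_nonneg _) (Finset.mem_univ k)
    exact mul_self_eq_zero.1 (le_antisymm (by linarith) (mul_self_nonneg _))
  funext i
  have h2 : (mat lList *ᵥ (mat nList *ᵥ x)) i = 0 := by
    rw [show mat nList *ᵥ x = 0 from funext hy]; simp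
  rw [Matrix.mulVec_mulVec] at h2
  simp only [Matrix.mulVec, dotProduct, Matrix.mul_apply, left_inv_entries, ite_mul, zero_mul,
    Finset.sum_ite_eq, Finset.mem_univ, if_true] at h2
  simpa using h2

/-- Roots congruent modulo two are opposite or equal. -/
theorem eq_or_neg_of_two {x y z : Ix → ℤ} (hx : q x = 1) (hy : q y = 1) (h : x = y + (2 : ℤ) • z) :
    x = y ∨ x = -y := by
  by_cases hz : z = 0
  · left; rw [h, hz, smul_zero, add_zero]
  right
  have hz1 : 1 ≤ q z := by
    by_contra hlt
    exact hz (eq_zero_of_q_nonpos (by omega))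
  have e1 := q_add y ((2 : ℤ) • z)
  rw [← h, hx, hy, q_smul, bil_smul_right] at e1
  have e2 : q (y + x) = 2 + bil y x := by rw [q_add, hx, hy]; ring
  have e3 : bil y x = bil y y + 2 * bil y z := by rw [h, bil_add_right, bil_smul_right]
  rw [bil_self, hy] at e3
  have h0 := eq_zero_of_q_nonpos (x := y + x) (by omega)
  exact eq_neg_of_add_eq_zero_right h0

/-- The isometry group of the lattice. -/
def W : Subgroup (GL Ix ℤ) where
  carrier := {g | ∀ x, q ((g : Matrix Ix Ix ℤ) *ᵥ x) = q x}
  one_mem' := fun x => by rw [Units.val_one, one_mulVec]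
  mul_mem' := fun {a b} ha hb x => by rw [Units.val_mul, ← mulVec_mulVec, ha, hb]
  inv_mem' := fun {a} ha x => by
    conv_lhs => rw [← ha]
    rw [mulVec_mulVec, Units.mul_inv, one_mulVec]

/-- The matrix of a reflection. -/
def reflMat (x : Ix → ℤ) : Matrix Ix Ix ℤ := fun i j =>
  (if i = j then 1 else 0) - x i * ∑ k, (U k j + U j k) * x k

theorem reflMat_mulVec (x y : Ix → ℤ) : reflMat x *ᵥ y = y - bil x y • x := by
  funext i
  simp only [Matrix.mulVec, dotProduct, reflMat, sub_mul, Finset.sum_sub_distrib, ite_mul, one_mul,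
    zero_mul, Finset.sum_ite_eq, Finset.mem_univ, if_true, Pi.sub_apply, Pi.smul_apply, smul_eq_mul]
  congr 1
  simp only [bil, Finset.sum_mul, Finset.mul_sum, mul_add, add_mul, Finset.sum_add_distrib]
  rw [Finset.sum_comm (f := fun i_1 j => U i_1 j * (x i_1 * y j) * x i)]
  congr 1 <;> exact Finset.sum_congr rfl fun a _ => Finset.sum_congr rfl fun b _ => by ring

theorem reflMat_sq {x : Ix → ℤ} (hx : q x = 1) : reflMat x * reflMat x = 1 := by
  refine Matrix.ext_iff_mulVec.mpr fun y => ?_
  rw [← mulVec_mulVec, reflMat_mulVec, reflMat_mulVec, one_mulVec, sub_eq_add_neg y,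
    bil_add_right, ← neg_one_smul ℤ (bil x y • x), smul_smul, bil_smul_right, bil_self, hx]
  module

/-- The reflection in a root. -/
def refl (x : Ix → ℤ) (hx : q x = 1) : W :=
  ⟨⟨reflMat x, reflMat x, reflMat_sq hx, reflMat_sq hx⟩, fun y => by
    show q (reflMat x *ᵥ y) = q y
    rw [reflMat_mulVec, sub_eq_add_neg, ← neg_smul, q_add, q_smul, bil_smul_right, hx,
      bil_comm y x]
    ring⟩

/-- The action. -/
def act (g : W) (x : Ix → ℤ) : Ix → ℤ := ((g : GL Ix ℤ) : Matrix Ix Ix ℤ) *ᵥ x

theorem act_refl {x : Ix → ℤ} (hx : q x = 1) (y : Ix → ℤ) : act (refl x hx) y = y - bil x y • x :=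
  reflMat_mulVec x y

theorem act_mul (g h : W) (x : Ix → ℤ) : act (g * h) x = act g (act h x) := (mulVec_mulVec _ _ _).symm

theorem act_one (x : Ix → ℤ) : act 1 x = x := one_mulVec _

theorem ext_act {g h : W} (e : ∀ x, act g x = act h x) : g = h :=
  Subtype.ext (Units.ext (Matrix.ext_iff_mulVec.mpr e))

theorem act_q (g : W) (x : Ix → ℤ) : q (act g x) = q x := g.2 x

theorem act_bil (g : W) (x y : Ix → ℤ) : bil (act g x) (act g y) = bil x y := by
  have h := act_q g (x + y)
  rw [show act g (x + y) = act g x + act g y from mulVec_add _ _ _, q_add, q_add, act_q, act_q] at h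
  linarith

theorem refl_sq {x : Ix → ℤ} (hx : q x = 1) : refl x hx * refl x hx = 1 :=
  Subtype.ext (Units.ext (reflMat_sq hx))

theorem refl_conj (g : W) {x : Ix → ℤ} (hx : q x = 1) :
    g * refl x hx * g⁻¹ = refl (act g x) (by rw [act_q, hx]) := by
  refine ext_act fun y => ?_
  have h1 : act g (act g⁻¹ y) = y := by rw [← act_mul, mul_inv_cancel, act_one]
  have h2 : bil x (act g⁻¹ y) = bil (act g x) y := by rw [← act_bil g, h1]
  rw [act_mul, act_mul, act_refl, act_refl, h2,
    show act g (act g⁻¹ y - bil (act g x) y • x) =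
      act g (act g⁻¹ y) - bil (act g x) y • act g x by
        rw [act, mulVec_sub, mulVec_smul]; rfl, h1]

/-! ### Reductions -/

section Red

variable {F : Type*} [Field F]

/-- Reduction of a vector. -/
def cv (F : Type*) [Field F] (x : Ix → ℤ) : Ix → F := fun i => ((x i : ℤ) : F)

theorem cv_add (x y : Ix → ℤ) : cv F (x + y) = cv F x + cv F y := funext fun i => Int.cast_add _ _

theorem cv_smul (c : ℤ) (x : Ix → ℤ) : cv F (c • x) = (c : F) • cv F x :=
  funext fun i => by simp [cv]

theorem cv_sub (x y : Ix → ℤ) : cv F (x - y) = cv F x - cv F y := funext fun i => Int.cast_sub _ _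

variable (h6 : (6 : F) = 0) {Q : QuadraticForm F (Ix → F)} (hQ : ⇑Q = Cfsg.quadFormPlus 4 F)
include h6 hQ

theorem q_cv (x : Ix → ℤ) : Q (cv F x) = (q x : F) := by
  have hU : ∀ i j : Ix, (U i j : F) =
      match i, j with
      | .inl a, .inr b => if a = b then 1 else 0
      | _, _ => 0 := by
    intro i j
    obtain ⟨k, hk⟩ := congr_six i j
    have e := congrArg (fun z : ℤ => (z : F)) hk
    push_cast at e
    rw [h6, zero_mul, sub_eq_zero] at e
    rw [e]
    rcases i with a | a <;> rcases j with b | b <;> simp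
  rw [hQ]
  simp only [q, Cfsg.quadFormPlus, cv, Int.cast_sum, Int.cast_mul, hU]
  simp [Fintype.sum_sum_type]

theorem b_cv (x y : Ix → ℤ) : QuadraticMap.polar ⇑Q (cv F x) (cv F y) = (bil x y : F) := by
  rw [QuadraticMap.polar, ← cv_add, q_cv h6 hQ, q_cv h6 hQ, q_cv h6 hQ, E8.q_add]
  push_cast
  ring

variable (hS : Function.Surjective ((↑) : ℤ → F))
include hS

theorem cv_surjective (v : Ix → F) : ∃ x, cv F x = v :=
  ⟨fun i => (hS (v i)).choose, funext fun i => (hS (v i)).choose_spec⟩

theorem exists_red : ∃ ρ : W →* Grp Q, ∀ g x, ap (ρ g) (cv F x) = cv F (act g x) := by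
  have hm : ∀ (g : W) (x : Ix → ℤ),
      ((Int.castRingHom F).mapMatrix ((g : GL Ix ℤ) : Matrix Ix Ix ℤ)) *ᵥ cv F x = cv F (act g x) := by
    intro g x
    funext i
    exact (RingHom.map_mulVec (Int.castRingHom F) _ x i).symm
  refine ⟨((Matrix.GeneralLinearGroup.map (Int.castRingHom F)).comp W.subtype).codRestrict _
    fun g u _ => ?_, fun g x => hm g x⟩
  obtain ⟨x, rfl⟩ := cv_surjective h6 hQ hS u
  show Q (((Int.castRingHom F).mapMatrix ((g : GL Ix ℤ) : Matrix Ix Ix ℤ)) *ᵥ cv F x) = Q (cv F x)
  rw [hm, q_cv h6 hQ, q_cv h6 hQ, act_q]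

theorem red_refl {ρ : W →* Grp Q} (hρ : ∀ g x, ap (ρ g) (cv F x) = cv F (act g x))
    {x : Ix → ℤ} (hx : q x = 1) : IsRefl (cv F x) (ρ (refl x hx)) := by
  refine ⟨by rw [q_cv h6 hQ, hx, Int.cast_one]; exact one_ne_zero, fun v => ?_⟩
  obtain ⟨y, rfl⟩ := cv_surjective h6 hQ hS v
  rw [hρ, act_refl, cv_sub, cv_smul, q_cv h6 hQ, hx, b_cv h6 hQ, Int.cast_one, inv_one, one_mul]

end Red

/-- The root above each vector of norm one modulo two. -/
theorem roots_norm : rootList.all (fun L => decide (q (vec L) = 1)) = true := by decide +kernel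

theorem roots_cover : ∀ v : Fin 4 ⊕ Fin 4 → ZMod 2, (∑ i, v (.inl i) * v (.inr i)) = 1 →
    rootList.any (fun L => decide ((fun i => ((vec L i : ℤ) : ZMod 2)) = v)) = true := by
  decide +kernel

theorem frame_norm : ∀ k : Fin 8, q (vec (frameList.getD k [])) = 1 := by decide +kernel

theorem frame_orth : ∀ k l : Fin 8, k ≠ l →
    bil (vec (frameList.getD k [])) (vec (frameList.getD l [])) = 0 := by decide +kernel

/-- The frame vectors. -/
def a (k : Fin 8) : Ix → ℤ := vec (frameList.getD k [])

/-- The vectors of the swap. -/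
def s (k : Fin 4) : Ix → ℤ := vec (swapList.getD k [])

theorem swap_norm : ∀ k : Fin 4, q (s k) = 1 := by decide +kernel

/-- The swap of the two halves of the frame. -/
def swapW : W :=
  refl (s 0) (swap_norm 0) * refl (s 1) (swap_norm 1) * refl (s 2) (swap_norm 2) *
    refl (s 3) (swap_norm 3)

/-- The map of the swap, computed. -/
def swapFun (y : Ix → ℤ) : Ix → ℤ :=
  let f := fun (x y : Ix → ℤ) => y - bil x y • x
  f (s 0) (f (s 1) (f (s 2) (f (s 3) y)))

theorem act_swapW (y : Ix → ℤ) : act swapW y = swapFun y := by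
  simp only [swapW, act_mul, act_refl, swapFun]

theorem swap_frame : ∀ k : Fin 4, swapFun (a ⟨k, by omega⟩) = a ⟨4 + k, by omega⟩ := by
  decide +kernel

theorem frame_neg : ∀ j : Ix,
    (Pi.single j 1 : Ix → ℤ) - ∑ k, bil (a k) (Pi.single j 1) • a k = -Pi.single j 1 := by
  decide +kernel

end CfsgLib.E8
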