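import Cfsg.Agent.Lib.E8.Lattice
import Cfsg.Agent.Lib.Classical.OrthReflect

/-!
# The reduction modulo two

The isometry group of the lattice maps onto `O⁺₈(2)` with kernel `±1`, and `-1` is a commutator.
-/

set_option autoImplicit false
set_option linter.unusedSectionVars false
set_option maxRecDepth 100000

namespace CfsgLib.E8

open Matrix CfsgLib.Orth
open scoped commutatorElement

theorem bil_sub_right (x y z : Ix → ℤ) : bil x (y - z) = bil x y - bil x z := by
  have h := bil_add_right x (y - z) z
  rw [sub_add_cancel] at h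
  linarith

theorem refl_congr {x y : Ix → ℤ} (hx : q x = 1) (e : x = y) :
    refl x hx = refl y (e ▸ hx) := by subst e; rfl

theorem act_four {x₀ x₁ x₂ x₃ : Ix → ℤ} (h₀ : q x₀ = 1) (h₁ : q x₁ = 1) (h₂ : q x₂ = 1)
    (h₃ : q x₃ = 1) (o01 : bil x₀ x₁ = 0) (o02 : bil x₀ x₂ = 0) (o03 : bil x₀ x₃ = 0)
    (o12 : bil x₁ x₂ = 0) (o13 : bil x₁ x₃ = 0) (o23 : bil x₂ x₃ = 0) (y : Ix → ℤ) :
    act (refl x₀ h₀ * refl x₁ h₁ * refl x₂ h₂ * refl x₃ h₃) y =
      y - bil x₀ y • x₀ - bil x₁ y • x₁ - bil x₂ y • x₂ - bil x₃ y • x₃ := by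
  simp only [act_mul, act_refl, bil_sub_right, bil_smul_right, o01, o02, o03, o12, o13, o23,
    mul_zero, sub_zero]
  abel

theorem a_norm (k : Fin 8) : q (a k) = 1 := frame_norm k

/-- The reflection in a vector of the frame. -/
def fr (k : Fin 8) : W := refl (a k) (a_norm k)

/-- The first half of the frame. -/
def half : W := fr 0 * fr 1 * fr 2 * fr 3

/-- The second half of the frame. -/
def half' : W := fr 4 * fr 5 * fr 6 * fr 7

theorem orth' (k l : Fin 8) (h : k ≠ l) : bil (a k) (a l) = 0 := frame_orth k l h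

theorem act_half (y : Ix → ℤ) :
    act half y = y - bil (a 0) y • a 0 - bil (a 1) y • a 1 - bil (a 2) y • a 2 - bil (a 3) y • a 3 :=
  act_four _ _ _ _ (orth' _ _ (by decide)) (orth' _ _ (by decide)) (orth' _ _ (by decide))
    (orth' _ _ (by decide)) (orth' _ _ (by decide)) (orth' _ _ (by decide)) y

theorem act_half' (y : Ix → ℤ) :
    act half' y = y - bil (a 4) y • a 4 - bil (a 5) y • a 5 - bil (a 6) y • a 6 - bil (a 7) y • a 7 :=
  act_four _ _ _ _ (orth' _ _ (by decide)) (orth' _ _ (by decide)) (orth' _ _ (by decide))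
    (orth' _ _ (by decide)) (orth' _ _ (by decide)) (orth' _ _ (by decide)) y

/-- Pairing with a fixed vector. -/
def bilL (x : Ix → ℤ) : (Ix → ℤ) →ₗ[ℤ] ℤ where
  toFun := bil x
  map_add' := bil_add_right x
  map_smul' c y := bil_smul_right c x y

theorem frame_sum (y : Ix → ℤ) : ∑ k, bil (a k) y • a k = (2 : ℤ) • y := by
  have h : (∑ k, (bilL (a k)).smulRight (a k)) = (2 : ℤ) • LinearMap.id := by
    refine LinearMap.pi_ext fun j c => ?_
    have e : (Pi.single j c : Ix → ℤ) = c • Pi.single j 1 := by
      rw [← Pi.single_smul, smul_eq_mul, mul_one]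
    rw [e, map_smul, map_smul]
    congr 1
    simp only [LinearMap.coe_sum, Finset.sum_apply, LinearMap.smulRight_apply, LinearMap.smul_apply,
      LinearMap.id_apply]
    have := frame_neg j
    rw [sub_eq_iff_eq_add] at this
    show ∑ k, bil (a k) (Pi.single j 1) • a k = _
    linear_combination (norm := module) -this
  have := congrArg (fun f => f y) h
  simpa [bilL] using this

/-- The element `-1`. -/
def negW : W := ⟨-1, fun x => by
  show q ((-1 : Matrix Ix Ix ℤ) *ᵥ x) = q x
  rw [neg_mulVec, one_mulVec, ← neg_one_smul ℤ x, q_smul]; ring⟩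

theorem act_negW (y : Ix → ℤ) : act negW y = -y := by
  show (-1 : Matrix Ix Ix ℤ) *ᵥ y = -y
  rw [neg_mulVec, one_mulVec]

theorem half'_mul_half : half' * half = negW := by
  refine ext_act fun y => ?_
  have h := frame_sum y
  rw [Fin.sum_univ_eight] at h
  have o : ∀ k l : Fin 8, k ≠ l → bil (a k) (a l) = 0 := orth'
  rw [act_mul, act_half, act_half', act_negW]
  simp only [bil_sub_right, bil_smul_right, o 4 0 (by decide), o 4 1 (by decide), o 4 2 (by decide),
    o 4 3 (by decide), o 5 0 (by decide), o 5 1 (by decide), o 5 2 (by decide), o 5 3 (by decide),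
    o 6 0 (by decide), o 6 1 (by decide), o 6 2 (by decide), o 6 3 (by decide), o 7 0 (by decide),
    o 7 1 (by decide), o 7 2 (by decide), o 7 3 (by decide), mul_zero, sub_zero]
  linear_combination (norm := module) -h

theorem half_sq : half * half = 1 := by
  refine ext_act fun y => ?_
  have o : ∀ k l : Fin 8, k ≠ l → bil (a k) (a l) = 0 := orth'
  have n : ∀ k : Fin 8, bil (a k) (a k) = 2 := fun k => by rw [bil_self, show q (a k) = 1 from frame_norm k, mul_one]
  rw [act_mul, act_half, act_half, act_one]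
  simp only [bil_sub_right, bil_smul_right, n, o 0 1 (by decide), o 0 2 (by decide),
    o 0 3 (by decide), o 1 0 (by decide), o 1 2 (by decide), o 1 3 (by decide), o 2 0 (by decide),
    o 2 1 (by decide), o 2 3 (by decide), o 3 0 (by decide), o 3 1 (by decide), o 3 2 (by decide),
    mul_zero, sub_zero]
  module

theorem swap_conj (k : Fin 4) :
    swapW * fr ⟨k, by omega⟩ * swapW⁻¹ = fr ⟨4 + k, by omega⟩ := by
  rw [fr, refl_conj]
  exact refl_congr _ (by rw [act_swapW, swap_frame])

theorem commutator_swap : ⁅swapW, half⁆ = negW := by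
  have h : swapW * half * swapW⁻¹ = half' := by
    rw [show swapW * half * swapW⁻¹ = (swapW * fr 0 * swapW⁻¹) * (swapW * fr 1 * swapW⁻¹) *
      (swapW * fr 2 * swapW⁻¹) * (swapW * fr 3 * swapW⁻¹) by rw [half]; group]
    exact congrArg₂ (· * ·) (congrArg₂ (· * ·) (congrArg₂ (· * ·) (swap_conj 0) (swap_conj 1))
      (swap_conj 2)) (swap_conj 3)
  rw [commutatorElement_def, h, inv_eq_of_mul_eq_one_right half_sq, half'_mul_half]

theorem negW_mem : negW ∈ commutator W := by
  rw [← commutator_swap, commutator_def]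
  exact Subgroup.commutator_mem_commutator (Subgroup.mem_top _) (Subgroup.mem_top _)

theorem negW_central : negW ∈ Subgroup.center W := by
  rw [Subgroup.mem_center_iff]
  refine fun g => ext_act fun y => ?_
  rw [act_mul, act_mul, act_negW, act_negW]
  exact mulVec_neg _ _

theorem negW_sq : negW * negW = 1 := ext_act fun y => by
  rw [act_mul, act_negW, act_negW, act_one, neg_neg]

theorem frame_link : ∀ k : Fin 8,
    rootList.any (fun L => decide (bil (a 0) (vec L) ≠ 0 ∧ bil (vec L) (a k) ≠ 0)) = true := by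
  decide +kernel

theorem eq_one_or_neg (g : W) (h : ∀ x, q x = 1 → act g x = x ∨ act g x = -x) :
    g = 1 ∨ g = negW := by
  have main : ∀ g : W, (∀ x, q x = 1 → act g x = x ∨ act g x = -x) → act g (a 0) = a 0 → g = 1 := by
    intro g h h0
    have same : ∀ {x y}, q x = 1 → q y = 1 → bil x y ≠ 0 → act g x = x → act g y = y := by
      intro x y _ hy hb hgx
      refine (h y hy).resolve_right fun e => hb ?_
      have e' := act_bil g x y
      rw [hgx, e, ← neg_one_smul ℤ y, bil_smul_right] at e'
      linarith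
    have hk : ∀ k, act g (a k) = a k := fun k => by
      obtain ⟨L, hL, hb⟩ := List.any_eq_true.1 (frame_link k)
      simp only [decide_eq_true_eq] at hb
      have hq : q (vec L) = 1 := by simpa using List.all_eq_true.1 roots_norm L hL
      exact same hq (frame_norm k) hb.2 (same (frame_norm 0) hq hb.1 h0)
    refine ext_act fun y => ?_
    rw [act_one]
    have hz : ∀ k, bil (a k) (act g y - y) = 0 := fun k => by
      have e := act_bil g (a k) y
      rw [hk] at e
      rw [bil_sub_right, e, sub_self]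
    have h2 := frame_sum (act g y - y)
    simp only [hz, zero_smul, Finset.sum_const_zero] at h2
    exact sub_eq_zero.1 ((smul_eq_zero.1 h2.symm).resolve_left two_ne_zero)
  rcases h (a 0) (frame_norm 0) with h0 | h0
  · exact Or.inl (main g h h0)
  · right
    have e := main (negW * g) (fun x hx => by
      rw [act_mul, act_negW]
      rcases h x hx with e | e <;> rw [e]
      · exact Or.inr rfl
      · exact Or.inl (neg_neg x)) (by rw [act_mul, act_negW, h0, neg_neg])
    rw [eq_inv_of_mul_eq_one_right e, inv_eq_of_mul_eq_one_right negW_sq]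

/-! ### Modulo two -/

section Two

variable {F : Type*} [Field F] [Finite F] (hF : ∀ c : F, c = 0 ∨ c = 1)
variable {Q : QuadraticForm F (Ix → F)} (hQ : ⇑Q = Cfsg.quadFormPlus 4 F) (hB : Nondeg Q)
include hF

theorem two_eq : (2 : F) = 0 := by
  rcases hF (2 : F) with h | h
  · exact h
  · exact absurd (show (1 : F) = 0 by linear_combination h) one_ne_zero

theorem six_eq : (6 : F) = 0 := by linear_combination 3 * two_eq hF

theorem cast_surjective : Function.Surjective ((↑) : ℤ → F) := fun c => by
  rcases hF c with rfl | rfl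
  · exact ⟨0, Int.cast_zero⟩
  · exact ⟨1, Int.cast_one⟩

include hQ

theorem roots_above {v : Ix → F} (hv : Q v = 1) : ∃ x, q x = 1 ∧ cv F x = v := by
  classical
  haveI : CharP F 2 := CharTwo.of_one_ne_zero_of_two_eq_zero one_ne_zero (two_eq hF)
  let θ : ZMod 2 →+* F := ZMod.castHom (dvd_refl 2) F
  let v' : Ix → ZMod 2 := fun i => if v i = 0 then 0 else 1
  have hθ : ∀ i, θ (v' i) = v i := fun i => by
    simp only [v']
    split_ifs with h
    · rw [map_zero, h]
    · rw [map_one, (hF (v i)).resolve_left h]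
  have hsum : (∑ i, v' (.inl i) * v' (.inr i)) = 1 := θ.injective (by
    rw [map_sum, map_one, ← hv, hQ]
    simp only [Cfsg.quadFormPlus, map_mul, hθ])
  obtain ⟨L, hL, e⟩ := List.any_eq_true.1 (roots_cover v' hsum)
  simp only [decide_eq_true_eq] at e
  refine ⟨vec L, by simpa using List.all_eq_true.1 roots_norm L hL, funext fun i => ?_⟩
  rw [← hθ i, ← congrFun e i, map_intCast]
  rfl

variable {ρ : W →* Grp Q} (hρ : ∀ g x, ap (ρ g) (cv F x) = cv F (act g x))
include hB hρ

theorem red_surjective : Function.Surjective ρ := by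
  rw [← MonoidHom.range_eq_top, eq_top_iff, ← refl_eq_top hB (fun h => by simp at h)]
  refine (Subgroup.closure_le _).2 fun g ⟨v, hv⟩ => ?_
  obtain ⟨x, hx, rfl⟩ := roots_above hF hQ ((hF (Q v)).resolve_left hv.1)
  refine ⟨refl x hx, ext_ap fun y => ?_⟩
  rw [(red_refl (six_eq hF) hQ (cast_surjective hF) hρ hx).2, hv.2]

theorem red_eq_one {g : W} : ρ g = 1 ↔ g = 1 ∨ g = negW := by
  haveI : CharP F 2 := CharTwo.of_one_ne_zero_of_two_eq_zero one_ne_zero (two_eq hF)
  refine ⟨fun h => eq_one_or_neg g fun x hx => ?_, ?_⟩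
  · have e : ∀ i, (2 : ℤ) ∣ act g x i - x i := fun i => by
      refine (CharP.intCast_eq_zero_iff F 2 _).1 ?_
      have := congrFun (hρ g x) i
      rw [h, ap_one] at this
      rw [Int.cast_sub, sub_eq_zero]
      exact this.symm
    choose z hz using e
    exact eq_or_neg_of_two (z := z) (by rw [act_q, hx]) hx (funext fun i => by
      simp only [Pi.add_apply, Pi.smul_apply, smul_eq_mul]; linarith [hz i])
  · rintro (rfl | rfl)
    · exact map_one ρ
    · refine ext_ap fun v => ?_
      obtain ⟨x, rfl⟩ := cv_surjective (six_eq hF) hQ (cast_surjective hF) v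
      rw [hρ, act_negW, ap_one]
      funext i
      have h2 := two_eq hF
      show ((-x i : ℤ) : F) = (x i : F)
      push_cast
      linear_combination (-(x i : F)) * h2

omit hF hQ hB hρ in
theorem map_mem_omega (f : W →* Grp Q) {g : W} (hg : g ∈ commutator W) :
    f g ∈ Cfsg.Omega F ⇑Q := by
  have h : (commutator W).map f ≤ Cfsg.Omega F ⇑Q := by
    rw [commutator_def, Subgroup.map_commutator]
    exact Subgroup.commutator_mono le_top le_top
  exact h ⟨g, hg, rfl⟩

theorem omega_le_map {g : Grp Q} (hg : g ∈ Cfsg.Omega F ⇑Q) :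
    ∃ w ∈ commutator W, ρ w = g := by
  have h : (commutator W).map ρ = Cfsg.Omega F ⇑Q := by
    rw [commutator_def, Subgroup.map_commutator,
      Subgroup.map_top_of_surjective ρ (red_surjective hF hQ hB hρ)]
    rfl
  rwa [← h, Subgroup.mem_map] at hg

theorem pair_mem {x y : Ix → ℤ} (hx : q x = 1) (hy : q y = 1) :
    refl x hx * refl y hy ∈ commutator W := by
  have hr := fun {x} (hx : q x = 1) => red_refl (six_eq hF) hQ (cast_surjective hF) hρ hx
  obtain ⟨w, hw, e⟩ := omega_le_map hF hQ hB hρ (g := ρ (refl x hx * refl y hy)) (by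
    rw [omega_eq_ker_dickson hB (two_eq hF) (by simp) (fun h => by simp at h), MonoidHom.mem_ker,
      map_mul, map_mul, dickson_refl hB (hr hx), dickson_refl hB (hr hy)]
    rfl)
  have h1 : ρ (w⁻¹ * (refl x hx * refl y hy)) = 1 := by rw [map_mul, map_inv, e, inv_mul_cancel]
  have h2 : w⁻¹ * (refl x hx * refl y hy) ∈ commutator W := by
    rcases (red_eq_one hF hQ hB hρ).1 h1 with h | h <;> rw [h]
    · exact one_mem _
    · exact negW_mem
  simpa [mul_assoc] using mul_mem hw h2

end Two

end CfsgLib.E8
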